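import Cfsg.Prelude.Def_Blocks
import Cfsg.Agent.Char.SmallDegreeSylow
import Cfsg.Agent.Kinf.PairSolvable
import Cfsg.Agent.Char.BlichfeldtHall
import Cfsg.Agent.Char.Central

/-!
# Faithful characters of degree below `p` of a `p`-solvable group with non-normal Sylow subgroup
-/

set_option autoImplicit false
set_option linter.unusedSectionVars false
set_option linter.style.haveILetI false

namespace CfsgLib.PSolvableDegree

open Subgroup CfsgLib.Char

universe u

variable {G : Type u} [Group G] [Finite G] {p : ℕ} [hp : Fact p.Prime]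

/-- A normalized, non-centralised subgroup of order prime to `p`, and an element of the Sylow
`p`-subgroup acting nontrivially on it with `p`-th power acting trivially. -/
theorem exists_acting (hs : Cfsg.IsPSolvable p G)
    (hab : ∀ P : Subgroup G, IsPGroup p P → IsMulCommutative P) (P : Sylow p G)
    (hP : ¬ (P : Subgroup G).Normal) :
    ∃ (q : ℕ) (Q : Subgroup G) (x : G), q.Prime ∧ q ≠ p ∧ IsPGroup q Q ∧
      x ∈ (P : Subgroup G) ∧ (∀ v ∈ Q, x * v * x⁻¹ ∈ Q) ∧ (∃ v ∈ Q, x * v ≠ v * x) ∧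
      ∀ v ∈ Q, x ^ p * v = v * x ^ p := by
  classical
  obtain ⟨E, hE⟩ : ∃ E, closure {g : G | ∃ n, g ^ p ^ n = 1} = E := ⟨_, rfl⟩
  haveI hEn : E.Normal := by
    have : closure {g : G | ∃ n, g ^ p ^ n = 1} = normalClosure {g : G | ∃ n, g ^ p ^ n = 1} := by
      refine le_antisymm closure_le_normalClosure ?_
      refine closure_mono ?_
      intro y hy
      obtain ⟨a, ⟨n, hn⟩, hay⟩ := Group.mem_conjugatesOfSet_iff.1 hy
      obtain ⟨c, rfl⟩ := isConj_iff.1 hay
      exact ⟨n, by rw [conj_pow, hn]; simp⟩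
    rw [← hE, this]; infer_instance
  have hPE : (P : Subgroup G) ≤ E := fun g hg => by
    obtain ⟨n, hn⟩ := P.isPGroup' ⟨g, hg⟩
    exact hE ▸ subset_closure ⟨n, congrArg Subtype.val hn⟩
  have hgen : closure {g : E | ∃ n, g ^ p ^ n = 1} = ⊤ := by
    refine map_injective E.subtype_injective ?_
    rw [MonoidHom.map_closure, ← MonoidHom.range_eq_map, E.range_subtype]
    apply le_antisymm
    · rw [closure_le]
      rintro _ ⟨g, -, rfl⟩
      exact g.2
    · conv_lhs => rw [← hE]
      refine closure_mono ?_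
      rintro g ⟨n, hn⟩
      exact ⟨⟨g, hE ▸ subset_closure ⟨n, hn⟩⟩, ⟨n, Subtype.ext hn⟩, rfl⟩
  have habE : ∀ R : Subgroup E, IsPGroup p R → IsMulCommutative R := fun R hR => ⟨⟨fun a b =>
    Subtype.ext (Subtype.ext (by
      have h := congrArg Subtype.val ((hab _ (hR.map E.subtype)).is_comm.comm
        ⟨_, mem_map_of_mem _ a.2⟩ ⟨_, mem_map_of_mem _ b.2⟩)
      simpa using h))⟩⟩
  obtain ⟨hquot, -⟩ := CfsgLib.PairSolvable.quotient_abelian_pGroup
    (PConstrained.isPSolvable_comap E.subtype E.subtype_injective hs) habE hgen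
  haveI := Solvable.pPrimeCore_normal (G := E) p
  obtain ⟨O, hO⟩ : ∃ O, Cfsg.pPrimeCore p E = O := ⟨_, rfl⟩
  haveI hOn : O.Normal := hO ▸ Solvable.pPrimeCore_normal (G := E) p
  have hOc : (Nat.card O).Coprime p := hO ▸ Solvable.coprime_card_pPrimeCore p
  have hpO : ¬ p ∣ Nat.card O := fun h => hp.out.one_lt.ne' (Nat.eq_one_of_dvd_coprimes hOc h dvd_rfl)
  obtain ⟨R, hR⟩ : ∃ R, P.subtype hPE = R := ⟨_, rfl⟩
  have hjoin : (R : Subgroup E) ⊔ O = ⊤ := by
    obtain ⟨m, hm⟩ := hquot.exists_card_eq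
    rw [hO, ← Subgroup.index_eq_card] at hm
    obtain ⟨i, -, hi⟩ := (Nat.dvd_prime_pow hp.out).1
      (hm ▸ Subgroup.index_dvd_of_le (le_sup_right : O ≤ (R : Subgroup E) ⊔ O))
    rw [← Subgroup.index_eq_one]
    rcases i with _ | i
    · simpa using hi
    · exact absurd ((hi ▸ dvd_pow_self p (Nat.succ_ne_zero i)).trans
        (Subgroup.index_dvd_of_le (le_sup_left : (R : Subgroup E) ≤ (R : Subgroup E) ⊔ O))) R.not_dvd_index
  -- some invariant Sylow subgroup of `O` is not centralised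
  have key : ∃ (q : ℕ) (Q : Subgroup E), q.Prime ∧ q ≠ p ∧ IsPGroup q Q ∧
      (∀ y ∈ (R : Subgroup E), ∀ v ∈ Q, y * v * y⁻¹ ∈ Q) ∧
      ∃ y ∈ (R : Subgroup E), ∃ v ∈ Q, y * v ≠ v * y := by
    by_contra hcon
    push Not at hcon
    obtain ⟨C, hC⟩ : ∃ C, centralizer ((R : Subgroup E) : Set E) ⊓ O = C := ⟨_, rfl⟩
    have hdvd : Nat.card O ∣ Nat.card C := by
      refine (Nat.factorization_le_iff_dvd Nat.card_pos.ne' Nat.card_pos.ne').1 fun q => ?_
      rcases eq_or_ne ((Nat.card O).factorization q) 0 with h0 | h0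
      · rw [h0]; exact Nat.zero_le _
      have hqm : q ∈ (Nat.card O).factorization.support := Finsupp.mem_support_iff.2 h0
      rw [Nat.support_factorization] at hqm
      haveI : Fact q.Prime := ⟨Nat.prime_of_mem_primeFactors hqm⟩
      have hqp : q ≠ p := fun e => hpO (e ▸ Nat.dvd_of_mem_primeFactors hqm)
      obtain ⟨S⟩ : Nonempty (Sylow q O) := inferInstance
      obtain ⟨Q₀, hQ₀⟩ : ∃ Q₀, (S : Subgroup O).map O.subtype = Q₀ := ⟨_, rfl⟩
      obtain ⟨N, hN⟩ : ∃ N, normalizer (Q₀ : Set E) = N := ⟨_, rfl⟩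
      have hNO : N ⊔ O = ⊤ := by
        rw [← hN, ← hQ₀]
        exact Sylow.normalizer_sup_eq_top S
      have hNi : ¬ p ∣ N.index := fun h => hpO (h.trans (by
        have h1 : O.relIndex N = O.index := by rw [← relIndex_top_right O, ← hNO, relIndex_sup_right]
        have h2 := (O.subgroupOf N).card_mul_index
        rw [show (O.subgroupOf N).index = O.index from h1] at h2
        refine ⟨Nat.card (O.subgroupOf N), Nat.eq_of_mul_eq_mul_left
          (Nat.pos_of_ne_zero (index_ne_zero_of_finite (H := O))) ?_⟩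
        rw [mul_comm O.index, O.card_mul_index, ← N.card_mul_index, ← h2]
        ring))
      obtain ⟨T⟩ : Nonempty (Sylow p N) := inferInstance
      have hTi : ¬ p ∣ ((T : Subgroup N).map N.subtype).index := by
        rw [index_map_subtype]
        exact fun h => (hp.out.dvd_mul.1 h).elim T.not_dvd_index hNi
      obtain ⟨g, hg⟩ := MulAction.exists_smul_eq E ((T.isPGroup'.map N.subtype).toSylow hTi) R
      obtain ⟨Q, hQ⟩ : ∃ Q, Q₀.map (MulAut.conj g).toMonoidHom = Q := ⟨_, rfl⟩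
      have hQO : Q ≤ O := by
        rintro _ hz
        rw [← hQ, ← hQ₀] at hz
        obtain ⟨_, ⟨s, -, rfl⟩, rfl⟩ := hz
        exact hOn.conj_mem _ s.2 g
      have hQp : IsPGroup q Q := hQ ▸ (hQ₀ ▸ S.isPGroup'.map O.subtype).map _
      have hnorm : ∀ y ∈ (R : Subgroup E), ∀ v ∈ Q, y * v * y⁻¹ ∈ Q := by
        intro y hy v hv
        rw [← hg, Sylow.coe_subgroup_smul] at hy
        obtain ⟨w, hw, rfl⟩ := hy
        rw [← hQ] at hv ⊢
        obtain ⟨u, hu, rfl⟩ := hv
        rw [IsPGroup.toSylow_coe] at hw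
        obtain ⟨t, -, rfl⟩ := hw
        refine ⟨(t : E) * u * (t : E)⁻¹, ?_, ?_⟩
        · exact (mem_normalizer_iff.1 (hN ▸ t.2 : (t : E) ∈ normalizer (Q₀ : Set E)) u).1 hu
        · show g * ((t : E) * u * (t : E)⁻¹) * g⁻¹ = g * (t : E) * g⁻¹ * (g * u * g⁻¹) * (g * (t : E) * g⁻¹)⁻¹
          group
      have hcent : Q ≤ C := fun v hv => hC ▸ ⟨mem_centralizer_iff.2 fun y hy => hcon q Q Fact.out hqp hQp hnorm y hy v hv, hQO hv⟩
      have hcard : Nat.card Q = q ^ (Nat.card O).factorization q := by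
        rw [← hQ, ← hQ₀, card_map_of_injective (MulEquiv.injective _),
          card_map_of_injective O.subtype_injective, S.card_eq_multiplicity]
      exact ((Fact.out : q.Prime).pow_dvd_iff_le_factorization Nat.card_pos.ne').1
        (hcard ▸ card_dvd_of_le hcent)
    have hCO : C = O := by
      refine eq_of_le_of_card_ge (hC ▸ inf_le_right) (Nat.le_of_dvd Nat.card_pos hdvd)
    have hRn : (R : Subgroup E).Normal := by
      have hcm : O ≤ centralizer ((R : Subgroup E) : Set E) := hCO ▸ hC ▸ inf_le_left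
      refine normalizer_eq_top_iff.1 (top_le_iff.1 (hjoin ▸ sup_le le_normalizer ?_))
      intro v hv
      refine mem_normalizer_iff.2 fun y => ?_
      have hc : ∀ y ∈ (R : Subgroup E), v * y * v⁻¹ = y := fun y hy => by
        rw [← mem_centralizer_iff.1 (hcm hv) y hy, mul_inv_cancel_right]
      refine ⟨fun hy => by rw [hc y hy]; exact hy, fun hy => ?_⟩
      have h2 := mem_centralizer_iff.1 (hcm (inv_mem hv)) _ hy
      have h3 : y = v * y * v⁻¹ := by
        calc y = v⁻¹ * (v * y * v⁻¹) * v := by group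
          _ = v * y * v⁻¹ := by rw [← h2, inv_mul_cancel_right]
      exact h3 ▸ hy
    apply hP
    haveI := R.characteristic_of_normal hRn
    have h := ConjAct.normal_of_characteristic_of_normal (H := E) (K := (R : Subgroup E))
    rw [← hR, Sylow.coe_subtype, map_subgroupOf_eq_of_le hPE] at h
    exact h
  obtain ⟨q, Q, hq, hqp, hQp, hQn, y, hy, v, hv, hyv⟩ := key
  -- an element of least order acting nontrivially
  obtain ⟨x, ⟨hxR, w, hw, hxw⟩, hmin⟩ := Set.exists_min_image
    {y : E | y ∈ (R : Subgroup E) ∧ ∃ v ∈ Q, y * v ≠ v * y} (fun y => orderOf y) (Set.toFinite _)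
    ⟨y, hy, v, hv, hyv⟩
  refine ⟨q, Q.map E.subtype, (x : G), hq, hqp, hQp.map _, ?_, ?_, ?_, ?_⟩
  · rw [← hR, Sylow.coe_subtype, mem_subgroupOf] at hxR
    exact hxR
  · rintro _ ⟨v, hv, rfl⟩
    exact ⟨x * v * x⁻¹, hQn x hxR v hv, rfl⟩
  · exact ⟨(w : G), mem_map_of_mem E.subtype hw, fun h => hxw (Subtype.ext h)⟩
  · rintro _ ⟨v, hv, rfl⟩
    by_contra hne
    obtain ⟨j, hj⟩ := R.isPGroup'.exists_card_eq
    obtain ⟨k, -, hk⟩ := (Nat.dvd_prime_pow hp.out).1 (hj ▸ orderOf_dvd_natCard (R : Subgroup E) hxR)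
    rcases k with _ | k
    · rw [pow_zero, orderOf_eq_one_iff] at hk
      exact hxw (by rw [hk, one_mul, mul_one])
    have h := hmin (x ^ p) ⟨pow_mem hxR p, v, hv, fun h => hne (congrArg Subtype.val h)⟩
    rw [orderOf_pow, hk, Nat.gcd_eq_right (dvd_pow_self p (Nat.succ_ne_zero k))] at h
    exact absurd h (not_le.2 (Nat.div_lt_self (pow_pos hp.out.pos _) hp.out.one_lt))

theorem main (hs : Cfsg.IsPSolvable p G) {χ : G → ℂ} (hχ : Cfsg.IsCharacter G χ)
    (hfaith : ∀ g, χ g = χ 1 → g = 1) {n : ℕ} (hn : χ 1 = n) (hnp : n + 1 ≤ p) (P : Sylow p G)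
    (hP : ¬ (P : Subgroup G).Normal) :
    n + 1 = p ∧ (∃ k : ℕ, n = 2 ^ k) ∧ Cfsg.IsIrrCharacter G χ := by
  classical
  haveI := Fintype.ofFinite G
  obtain ⟨q, Q, x, hq, hqp, hQp, hxP, hxn, ⟨w, hw, hxw⟩, hxp⟩ := exists_acting hs
    (fun R hR => ⟨⟨fun a b => Subtype.ext (BlichfeldtHall.abelian_of_lt hχ hfaith hn (by omega) hR a a.2 b b.2)⟩⟩) P hP
  obtain ⟨L, hL⟩ : ∃ L, Q ⊔ zpowers x = L := ⟨_, rfl⟩
  have hQL : Q ≤ L := hL ▸ le_sup_left
  have hxL : x ∈ L := hL ▸ mem_sup_right (mem_zpowers x)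
  obtain ⟨xL, hxLdef⟩ : ∃ xL : L, xL = ⟨x, hxL⟩ := ⟨_, rfl⟩
  obtain ⟨K, hK⟩ : ∃ K, Q.subgroupOf L = K := ⟨_, rfl⟩
  have hKtop : K ⊔ zpowers xL = ⊤ := by
    refine map_injective L.subtype_injective ?_
    rw [Subgroup.map_sup, ← hK, map_subgroupOf_eq_of_le hQL, MonoidHom.map_zpowers, hxLdef,
      ← MonoidHom.range_eq_map, L.range_subtype]
    exact hL
  haveI hKn : K.Normal := by
    refine normalizer_eq_top_iff.1 (top_le_iff.1 (hKtop ▸ sup_le le_normalizer ?_))
    refine zpowers_le.2 (mem_normalizer_iff.2 fun u => ?_)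
    subst hK hxLdef
    simp only [mem_subgroupOf, Subgroup.coe_mul, Subgroup.coe_inv]
    refine ⟨hxn _, fun h => ?_⟩
    obtain ⟨j, hj⟩ := mem_powers_iff_mem_zpowers.2 (inv_mem (mem_zpowers x))
    have hpow : ∀ (m : ℕ) z, z ∈ Q → x ^ m * z * (x ^ m)⁻¹ ∈ Q := by
      intro m
      induction m with
      | zero => intro z hz; simpa using hz
      | succ m ih =>
        intro z hz
        have : x ^ (m + 1) * z * (x ^ (m + 1))⁻¹ = x * (x ^ m * z * (x ^ m)⁻¹) * x⁻¹ := by
          rw [pow_succ']; group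
        rw [this]; exact hxn _ (ih z hz)
    have h2 := hpow j _ h
    simp only at hj
    rw [hj] at h2
    simpa [mul_assoc] using h2
  have hcardK : Nat.card K = Nat.card Q := hK ▸ Nat.card_congr (subgroupOfEquivOfLe hQL).toEquiv
  haveI := Fact.mk hq
  obtain ⟨a, ha⟩ := hQp.exists_card_eq
  have hKp : ¬ p ∣ Nat.card K := by
    rw [hcardK, ha]
    exact fun h => hqp ((Nat.prime_dvd_prime_iff_eq hp.out hq).1 (hp.out.dvd_of_dvd_pow h)).symm
  obtain ⟨k, hk⟩ : ∃ k, orderOf xL = p ^ (k + 1) := by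
    obtain ⟨j, hj⟩ := P.isPGroup'.exists_card_eq
    obtain ⟨k, -, hk⟩ := (Nat.dvd_prime_pow hp.out).1 (hj ▸ orderOf_dvd_natCard (P : Subgroup G) hxP)
    have h' : orderOf xL = p ^ k := by rw [hxLdef, ← hk, Subgroup.orderOf_mk]
    rcases k with _ | k
    · rw [pow_zero, orderOf_eq_one_iff] at hk
      exact absurd (by rw [hk, one_mul, mul_one]) hxw
    · exact ⟨k, h'⟩
  have hy : xL ^ p ∈ center L := by
    have hle : K ⊔ zpowers xL ≤ centralizer ({xL ^ p} : Set L) := by
      refine sup_le (fun u hu => ?_) (zpowers_le.2 (mem_centralizer_singleton_iff.2 (by rw [← pow_succ', pow_succ])))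
      rw [mem_centralizer_singleton_iff]
      refine Subtype.ext ?_
      rw [← hK, mem_subgroupOf] at hu
      simp only [Subgroup.coe_mul, SubgroupClass.coe_pow, hxLdef]
      exact (hxp _ hu).symm
    exact mem_center_iff.2 fun u => mem_centralizer_singleton_iff.1 (hle (hKtop ▸ mem_top u))
  have hχL : Cfsg.IsCharacter L (fun u : L => χ u) := IsCharacter.restrict hχ L
  obtain ⟨s, hs', hsum⟩ := IsCharacter.exists_multiset hχL
  have hval : ∀ (t : Multiset (L → ℂ)) (u : L), t.sum u = (t.map fun ψ => ψ u).sum := fun t u =>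
    map_multiset_sum (Pi.evalAddMonoidHom (fun _ : L => ℂ) u) t
  choose! d hd0 hd using fun (ψ : L → ℂ) (h : ψ ∈ s) => IsIrrCharacter.exists_degree (hs' ψ h)
  have hdeg : (s.map d).sum = n := by
    have h := congrFun hsum 1
    rw [hval, Multiset.map_congr rfl hd] at h
    have h2 : ((n : ℕ) : ℂ) = (((s.map d).sum : ℕ) : ℂ) := by
      rw [← hn, Nat.cast_multiset_sum, Multiset.map_map]
      exact h
    exact_mod_cast h2.symm
  -- a large constituent
  obtain ⟨ψ, hψ, hψd⟩ : ∃ ψ ∈ s, p ≤ d ψ + 1 := by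
    by_contra hall
    push Not at hall
    apply hxw
    have hc : ∀ ψ ∈ s, ψ (⟨w, hQL hw⟩ * xL * (⟨w, hQL hw⟩)⁻¹ * xL⁻¹) = ψ 1 := by
      intro ψ hψ
      obtain ⟨m, σ, hσ, hσψ⟩ := hs' ψ hψ
      have hm : d ψ = m := by
        have h := hd ψ hψ
        rw [← congrFun hσψ 1, σ.char_one, Module.finrank_fin_fun, Nat.cast_inj] at h
        exact h.symm
      have h := commutator_eq_one_of_degree_lt K hKp xL hk hKtop hy σ (hm ▸ hall ψ hψ) ⟨w, hQL hw⟩
      rw [← hσψ]
      simp only [Representation.character]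
      congr 1
      rw [map_mul, map_mul, h, map_mul σ xL, mul_assoc (σ xL),
        ← map_mul σ ⟨w, hQL hw⟩, mul_inv_cancel, map_one σ, mul_one, ← map_mul, mul_inv_cancel, map_one σ]
    have h1 : χ (w * x * w⁻¹ * x⁻¹) = χ 1 := by
      have e1 := congrFun hsum (⟨w, hQL hw⟩ * xL * (⟨w, hQL hw⟩)⁻¹ * xL⁻¹)
      have e2 := congrFun hsum 1
      rw [hval, Multiset.map_congr rfl hc, ← hval, ← e2] at e1
      simpa [hxLdef] using e1
    have h2 := hfaith _ h1
    rw [mul_inv_eq_one, mul_inv_eq_iff_eq_mul] at h2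
    exact h2.symm
  have hle : d ψ ≤ n := hdeg ▸ Multiset.single_le_sum (fun _ _ => Nat.zero_le _) _ (Multiset.mem_map_of_mem d hψ)
  have hnd : n + 1 = p := by omega
  have hdn : d ψ = n := by omega
  have hsingle : s = {ψ} := by
    obtain ⟨t, rfl⟩ := Multiset.exists_cons_of_mem hψ
    rw [Multiset.map_cons, Multiset.sum_cons, hdn] at hdeg
    have ht : (t.map d).sum = 0 := by omega
    have : t = 0 := Multiset.eq_zero_of_forall_notMem fun φ hφ => by
      have h := Multiset.single_le_sum (fun _ _ => Nat.zero_le _) _ (Multiset.mem_map_of_mem d hφ)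
      have := hd0 φ (Multiset.mem_cons_of_mem hφ)
      omega
    rw [this]; rfl
  have hirrL : Cfsg.IsIrrCharacter L (fun u : L => χ u) := by
    rw [hsum, hsingle, Multiset.sum_singleton]; exact hs' ψ hψ
  refine ⟨hnd, ?_, ?_⟩
  · have hn2 : 2 ≤ p - 1 ∨ p = 2 := by
      rcases Nat.lt_or_ge 2 p with h | h
      · exact Or.inl (by omega)
      · exact Or.inr (le_antisymm h hp.out.two_le)
    have hdvd : n ∣ Nat.card L := IsIrrCharacter.degree_dvd_card hirrL (by simpa using hn)
    have hindex : K.index ∣ p ^ (k + 1) := by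
      rw [← hk, ← Nat.card_zpowers, ← relIndex_top_right, ← hKtop, relIndex_sup_left]
      exact (K.subgroupOf (zpowers xL)).index_dvd_card
    rw [← K.card_mul_index, hcardK, ha] at hdvd
    have hnq : n ∣ q ^ a := by
      refine Nat.Coprime.dvd_of_dvd_mul_right ?_ (hdvd.trans (Nat.mul_dvd_mul_left _ hindex))
      refine Nat.Coprime.pow_right _ ((hp.out.coprime_iff_not_dvd.2 fun h => ?_).symm)
      rcases Nat.eq_zero_or_pos n with h0 | h0
      · have := hd0 ψ hψ
        omega
      · have := Nat.le_of_dvd h0 h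
        omega
    obtain ⟨c, -, hc⟩ := (Nat.dvd_prime_pow hq).1 hnq
    rcases hn2 with h | h
    · refine ⟨c, ?_⟩
      have hq2 : q = 2 := by
        refine ((Nat.prime_dvd_prime_iff_eq Nat.prime_two hq).1 (Nat.prime_two.dvd_of_dvd_pow (n := c) ?_)).symm
        rw [← hc, show n = p - 1 by omega]
        exact (Nat.Prime.even_sub_one hp.out (by omega)).two_dvd
      rw [hc, hq2]
    · exact ⟨0, by rw [pow_zero]; omega⟩
  · obtain ⟨t, ht, hχt⟩ := IsCharacter.exists_multiset hχ
    have hres : ∀ φ ∈ t, ∃ v : Multiset (L → ℂ), (∀ f ∈ v, Cfsg.IsIrrCharacter L f) ∧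
        (fun u : L => φ u) = v.sum ∧ 0 < Multiset.card v := by
      intro φ hφ
      obtain ⟨v, hv, hv'⟩ := IsCharacter.exists_multiset
        (IsCharacter.restrict (IsIrrCharacter.isCharacter (ht φ hφ)) L)
      refine ⟨v, hv, hv', Nat.pos_of_ne_zero fun h0 => ?_⟩
      rw [Multiset.card_eq_zero] at h0
      refine IsIrrCharacter.apply_one_ne_zero (ht φ hφ) ?_
      simpa [h0] using congrFun hv' 1
    choose! v hv hv' hvpos using hres
    obtain ⟨V, hV⟩ : ∃ V, t.bind v = V := ⟨_, rfl⟩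
    have hVirr : ∀ f ∈ V, Cfsg.IsIrrCharacter L f := fun f hf => by
      rw [← hV, Multiset.mem_bind] at hf
      obtain ⟨φ, hφ, hf⟩ := hf
      exact hv φ hφ f hf
    have hVsum : (fun u : L => χ u) = V.sum := by
      rw [← hV, Multiset.sum_bind]
      funext u
      have he : ∀ t : Multiset (G → ℂ), t.sum (u : G) = (t.map fun φ => φ (u : G)).sum := fun t =>
        map_multiset_sum (Pi.evalAddMonoidHom (fun _ : G => ℂ) (u : G)) t
      rw [hχt, he, hval, Multiset.map_map]
      exact congrArg Multiset.sum (Multiset.map_congr rfl fun φ hφ => congrFun (hv' φ hφ) u)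
    have hVcard : Multiset.card V = 1 := by
      haveI := Fintype.ofFinite L
      have hall : ∀ f ∈ V, f = fun u : L => χ u := fun f hf => by
        by_contra hne
        have h0 := IsIrrCharacter.classInner_of_ne hirrL (hVirr f hf) (Ne.symm hne)
        rw [hVsum, classInner_multiset_sum V hVirr (hVirr f hf), Nat.cast_eq_zero] at h0
        exact (Multiset.count_pos.2 hf).ne' h0
      have h1 : Cfsg.classInner (fun u : L => χ u) (fun u : L => χ u) = (V.count (fun u : L => χ u) : ℂ) := by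
        refine Eq.trans ?_ (classInner_multiset_sum V hVirr hirrL)
        exact congrArg (fun f => Cfsg.classInner f (fun u : L => χ u)) hVsum
      rw [IsIrrCharacter.classInner_self hirrL, eq_comm, Nat.cast_eq_one,
        Multiset.count_eq_card.2 fun f hf => (hall f hf).symm] at h1
      exact h1
    have htcard : Multiset.card t = 1 := by
      rw [← hV, Multiset.card_bind] at hVcard
      have h1 : (t.map fun _ => 1).sum ≤ (t.map (Multiset.card ∘ v)).sum :=
        Multiset.sum_map_le_sum_map _ _ fun φ hφ => hvpos φ hφ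
      simp at h1
      have h2 : Multiset.card t ≠ 0 := fun h0 => by
        rw [Multiset.card_eq_zero] at h0
        simp [h0] at hVcard
      simp only [Function.comp_def] at hVcard h1
      omega
    obtain ⟨φ, rfl⟩ := Multiset.card_eq_one.1 htcard
    rw [hχt, Multiset.sum_singleton]
    exact ht φ (Multiset.mem_singleton_self φ)

end CfsgLib.PSolvableDegree
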